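import Cfsg.Agent.H211.Hup.NcFrame
import Cfsg.Agent.H797.Nc.Main
import Cfsg.Agent.H691.AN.Defs

/-!
# S4766: noncentral abelian chief factors below `A_n`
-/

set_option autoImplicit false
set_option linter.unusedSectionVars false
set_option linter.style.haveILetI false

universe u v

namespace Cfsg.Agent.H211.Hup

open Cfsg Cfsg.Agent.Characters.Core Cfsg.Agent.H686.CharKit Cfsg.Agent.H672
open Equiv Subgroup

/-- the module statement -/
theorem habs {n : ℕ} (hn : 7 ≤ n)
    (hbig : ∀ T : Subgroup (Perm (Fin n)), T < alternatingGroup (Fin n) →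
      Nat.card (alternatingGroup (Fin n)) ≤ Nat.card T * Nat.card (ConjClasses T) → H797.Nc.HasBig T)
    (Λ : Type u) [CommGroup Λ] [Finite Λ] (ρ : alternatingGroup (Fin n) →* MulAut Λ)
    (h : ∀ x : Λ, x ≠ 1 → ∃ T : Subgroup (Perm (Fin n)), (∀ g : alternatingGroup (Fin n), (g : Perm (Fin n)) ∈ T ↔ ρ g x = x) ∧
        T < alternatingGroup (Fin n) ∧ Nat.card (alternatingGroup (Fin n)) < Nat.card T * Nat.card (ConjClasses T)) :
    ∀ x : Λ, x = 1 := by
  by_contra hne
  push Not at hne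
  obtain ⟨x0, hx0⟩ := hne
  have : Nontrivial Λ := ⟨x0, 1, hx0⟩
  let S : Λ → Subgroup (alternatingGroup (Fin n)) := fun x =>
    { carrier := {g | ρ g x = x}
      one_mem' := by
        show ρ 1 x = x
        rw [map_one]; rfl
      mul_mem' := by
        intro a b ha hb
        show ρ (a * b) x = x
        rw [map_mul, MulAut.mul_apply, show ρ b x = x from hb, show ρ a x = x from ha]
      inv_mem' := by
        intro a ha
        show ρ a⁻¹ x = x
        have h1 : ρ a x = x := ha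
        conv_lhs => rw [← h1]
        rw [← MulAut.mul_apply, ← map_mul, inv_mul_cancel, map_one]; rfl }
  let T : Λ → Subgroup (Perm (Fin n)) := fun x => (S x).map (alternatingGroup (Fin n)).subtype
  have hT : ∀ x (g : alternatingGroup (Fin n)), (g : Perm (Fin n)) ∈ T x ↔ ρ g x = x := by
    intro x g
    constructor
    · rintro ⟨s, hs, hsg⟩
      have h1 : s = g := Subtype.ext hsg
      rw [← h1]
      exact hs
    · intro h
      exact ⟨g, h, rfl⟩
  have hTA : ∀ x, T x ≤ alternatingGroup (Fin n) := by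
    rintro x _ ⟨s, -, rfl⟩
    exact s.2
  have hTe : ∀ x, x ≠ 1 → T x < alternatingGroup (Fin n) ∧
      Nat.card (alternatingGroup (Fin n)) ≤ Nat.card (T x) * Nat.card (ConjClasses (T x)) := by
    intro x hx
    obtain ⟨T', h1, h2, h3⟩ := h x hx
    have e : T' = T x := by
      ext g
      constructor
      · intro hg
        exact (hT x ⟨g, h2.le hg⟩).2 ((h1 ⟨g, h2.le hg⟩).1 hg)
      · intro hg
        exact (h1 ⟨g, hTA x hg⟩).2 ((hT x ⟨g, hTA x hg⟩).1 hg)
    subst e
    exact ⟨h2, h3.le⟩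
  refine H797.Nc.core hn T ?_ (fun x hx => (hTe x hx).1) ?_ ?_ ?_ (fun x hx => (hTe x hx).2)
    (fun x hx => hbig _ (hTe x hx).1 (hTe x hx).2)
  · intro g hg
    refine (hT 1 ⟨g, hg⟩).2 ?_
    rw [map_one]
  · intro a b g hg
    have h0 := hTA a hg.1
    refine (hT _ ⟨g, h0⟩).2 ?_
    rw [map_mul, (hT a ⟨g, h0⟩).1 hg.1, (hT b ⟨g, h0⟩).1 hg.2]
  · intro a g hg
    have h0 := hTA a hg
    refine (hT _ ⟨g, h0⟩).2 ?_
    rw [map_inv, (hT a ⟨g, h0⟩).1 hg]
  · intro g hg x
    refine ⟨ρ ⟨g, hg⟩ x, fun y => ?_⟩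
    have key : ∀ y0 : alternatingGroup (Fin n), (y0 : Perm (Fin n)) ∈ T (ρ ⟨g, hg⟩ x) ↔ g⁻¹ * y0 * g ∈ T x := by
      intro y0
      rw [hT]
      have e1 : g⁻¹ * (y0 : Perm (Fin n)) * g = (((⟨g, hg⟩ : alternatingGroup (Fin n))⁻¹ * y0 * ⟨g, hg⟩ :
          alternatingGroup (Fin n)) : Perm (Fin n)) := rfl
      rw [e1, hT, map_mul, map_mul, MulAut.mul_apply, MulAut.mul_apply, map_inv]
      constructor
      · intro h1
        rw [h1, MulAut.inv_apply_self]
      · intro h1
        have h2 := congrArg (ρ ⟨g, hg⟩) h1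
        rwa [MulAut.apply_inv_self] at h2
    constructor
    · intro hy
      exact (key ⟨y, hTA _ hy⟩).1 hy
    · intro hy
      have h0 : y ∈ alternatingGroup (Fin n) := by
        have h1 := hTA _ hy
        have h2 := mul_mem (mul_mem hg h1) (inv_mem hg)
        have e : g * (g⁻¹ * y * g) * g⁻¹ = y := by group
        rwa [e] at h2
      exact (key ⟨y, h0⟩).2 hy

end Cfsg.Agent.H211.Hup
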