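import Cfsg.Agent.H388.AN.Large
import Cfsg.Agent.H686.CharKit
import Cfsg.Agent.H835.AN.DegFin
import Cfsg.Agent.H539.PartCount
import Cfsg.Agent.H540.ClassNum

/-!
# S4766: the central extensions of `A_8`
-/

set_option autoImplicit false
set_option linter.unusedSectionVars false
set_option linter.style.haveILetI false

universe u v

namespace Cfsg.Agent.H211.Hup

open Cfsg Cfsg.Agent.Characters.Core Cfsg.Agent.H686.CharKit Cfsg.Agent.H691.AN Cfsg.Agent.H388.AN
open Equiv

theorem card_conj_alt_le (n : ℕ) : Nat.card (ConjClasses (An (n + 2))) ≤ 2 * Nat.fib (n + 3) := by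
  have h1 := H540.ClassNum.le_index_mul (alternatingGroup (Fin (n + 2)))
  rw [alternatingGroup.index_eq_two] at h1
  have h2 := H539.PartCount.card_conjClasses_perm_le_fib (Fin (n + 2))
  rw [Fintype.card_fin] at h2
  exact h1.trans (Nat.mul_le_mul_left _ h2)

/-- the central case of S4766 for `n = 8` -/
theorem eight {G : Type u} [Group G] [Finite G] (hD : charDegrees G ⊆ D 8) (N V : Subgroup G)
    [N.Normal] [V.Normal] (hVN : V ≤ N) (e : (N ⧸ V.subgroupOf N) ≃* An 8) (hperf : ⁅N, N⁆ = N)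
    (hcen : V ≤ Subgroup.centralizer (N : Set G)) (hne : V ≠ ⊥) : False := by
  classical
  have h := cen_of hVN e hperf hcen
  obtain ⟨z, h1, h2, h3⟩ := h.exists_z (by norm_num) hne
  have hcov := h.isCover h1 h2 h3
  obtain ⟨χ₀, hχ₀, hz, hd⟩ := H107.Spin.exists_basic_spin (by norm_num) hcov
  obtain ⟨i, hi⟩ := h.fixed (by norm_num) hD hne
  have hne0 := isIrr_apply_one_ne_zero hχ₀
  have hzV : (z : G) ∈ V := (h3 z).2 (Or.inr rfl)
  have hi2 : 2 ≤ i := by
    have h4 := hi χ₀ hχ₀ ⟨⟨z, hzV⟩, by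
      show χ₀ z ≠ χ₀ 1
      rw [hz]
      intro h5
      apply hne0
      have h6 : (2 : ℂ) * χ₀ 1 = 0 := by linear_combination -h5
      simpa using h6⟩ _ hd
    rw [H835.AN.mem_D_iff (by norm_num) (by norm_num), H835.AN.mem_D_iff (by norm_num) (by norm_num)] at h4
    by_contra hlt
    have h5 : i = 0 ∨ i = 1 := by omega
    revert h4
    rcases h5 with rfl | rfl <;> decide
  -- the linear character under `χ₀`
  obtain ⟨l, hl⟩ := exists_lin h.sub_le_center hχ₀
  have : Fintype (IrrCharacter N) := by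
    have := finite_irr (G := N)
    exact Fintype.ofFinite _
  have hsum := sum_sq h.sub_le_center l
  have hidx : (V.subgroupOf N).index = 20160 := by
    rw [Subgroup.index_eq_card, Nat.card_congr e.toEquiv]
    show Nat.card (alternatingGroup (Fin 8)) = 20160
    rw [nat_card_alternatingGroup, Nat.card_eq_fintype_card, Fintype.card_fin]
    rfl
  rw [hidx] at hsum
  have hcount := card_over_le h.sub_le_center l
  rw [H540.ClassNum.card_conjClasses_congr e] at hcount
  replace hcount := hcount.trans (card_conj_alt_le 6)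
  have hf : Nat.fib 9 = 34 := by decide
  rw [show 6 + 3 = 9 from rfl, hf] at hcount
  -- the degrees over `l`
  have hdeg : ∀ χ : IrrCharacter N, Over (V.subgroupOf N) l (χ : N → ℂ) → charDegree (χ : N → ℂ) ^ 2 ≤ 289 := by
    intro χ hχ
    have hχ1 := isIrr_apply_one_ne_zero χ.2
    have h4 := hi χ χ.2 ⟨⟨z, hzV⟩, by
      show (χ : N → ℂ) z ≠ (χ : N → ℂ) 1
      have h5 := hχ ⟨z, hzV⟩
      have h6 := hl ⟨z, hzV⟩
      show (χ : N → ℂ) z ≠ (χ : N → ℂ) 1
      intro h7
      change (χ : N → ℂ) z = (χ : N → ℂ) 1 * _ at h5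
      change χ₀ z = χ₀ 1 * _ at h6
      rw [h7] at h5
      have h8 : ((l ⟨z, hzV⟩ : ℂˣ) : ℂ) = 1 := by
        have h9 : (χ : N → ℂ) 1 * (((l ⟨z, hzV⟩ : ℂˣ) : ℂ) - 1) = 0 := by linear_combination -h5
        rcases mul_eq_zero.1 h9 with h10 | h10
        · exact absurd h10 hχ1
        · linear_combination h10
      rw [h8, mul_one, hz] at h6
      apply hne0
      have h9 : (2 : ℂ) * χ₀ 1 = 0 := by linear_combination -h6
      simpa using h9⟩ _ (charDegree_cast (isIrr_isCharacter χ.2)).symm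
    have h5 : ∀ d ∈ D 8, d ≤ 70 := by
      intro d hd
      rw [H835.AN.mem_D_iff (by norm_num) (by norm_num)] at hd
      revert d
      decide
    have h6 : 2 ^ 2 ≤ 2 ^ i := Nat.pow_le_pow_right (by norm_num) hi2
    have h7 : 2 ^ i ≤ 2 ^ (i + 1) := Nat.pow_le_pow_right (by norm_num) (by omega)
    have h8 : 4 * charDegree (χ : N → ℂ) ≤ 70 := by
      rcases h4 with h4 | h4
      · exact (Nat.mul_le_mul_right _ h6).trans (h5 _ h4)
      · exact (Nat.mul_le_mul_right _ (h6.trans h7)).trans (h5 _ h4)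
    have h9 : charDegree (χ : N → ℂ) ≤ 17 := by omega
    exact Nat.pow_le_pow_left h9 2
  rw [← Finset.sum_filter] at hsum
  have hle := Finset.sum_le_card_nsmul (Finset.univ.filter fun χ : IrrCharacter N => Over (V.subgroupOf N) l (χ : N → ℂ))
    (fun χ => charDegree (χ : N → ℂ) ^ 2) 289 (fun χ hχ => hdeg χ (Finset.mem_filter.1 hχ).2)
  have hsub : Nat.card {χ : IrrCharacter N // Over (V.subgroupOf N) l (χ : N → ℂ)} =
      (Finset.univ.filter fun χ : IrrCharacter N => Over (V.subgroupOf N) l (χ : N → ℂ)).card := by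
    rw [Nat.card_eq_fintype_card, Fintype.card_subtype]
  rw [hsub] at hcount
  rw [hsum, smul_eq_mul] at hle
  omega

end Cfsg.Agent.H211.Hup
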