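import Cfsg.Agent.H211.Hup.Over

/-!
# Noncentral abelian normal subgroups below `A_n` (S4766): the frame

`nc_frame`: a perfect-like extension `P / V = A_n`, `V = [V, P]` abelian, with all degrees `d² < |A_n|`: the dual of `V`
is an `A_n`-module all of whose nontrivial elements have a stabiliser `T < A_n` with `|A_n| < |T| k(T)`.
-/

set_option autoImplicit false
set_option linter.unusedSectionVars false
set_option linter.style.haveILetI false

universe u v

namespace Cfsg.Agent.H211.Hup

open Cfsg Cfsg.Agent.Characters.Core Cfsg.Agent.H686.CharKit Cfsg.Agent.H672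
open Equiv

theorem card_conj_congr {G : Type u} {H : Type v} [Group G] [Group H] (e : G ≃* H) :
    Nat.card (ConjClasses G) = Nat.card (ConjClasses H) := by
  refine Nat.card_congr ⟨ConjClasses.map e.toMonoidHom, ConjClasses.map e.symm.toMonoidHom, ?_, ?_⟩
  · intro c
    obtain ⟨g, rfl⟩ := ConjClasses.exists_rep c
    exact congrArg ConjClasses.mk (e.symm_apply_apply g)
  · intro c
    obtain ⟨g, rfl⟩ := ConjClasses.exists_rep c
    exact congrArg ConjClasses.mk (e.apply_symm_apply g)

section Dual

variable {P : Type u} [Group P] (V : Subgroup P) [hV : V.Normal]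

/-- the action on the dual of a normal subgroup -/
def dual : P →* MulAut (V →* ℂˣ) where
  toFun g :=
    { toFun := fun l => l.comp (MulAut.conjNormal g⁻¹ : MulAut V).toMonoidHom
      invFun := fun l => l.comp (MulAut.conjNormal g : MulAut V).toMonoidHom
      left_inv := fun l => by
        ext v
        simp only [MonoidHom.comp_apply, MulEquiv.coe_toMonoidHom]
        congr 1
        rw [← MulAut.mul_apply, ← map_mul, inv_mul_cancel, map_one]
        rfl
      right_inv := fun l => by
        ext v
        simp only [MonoidHom.comp_apply, MulEquiv.coe_toMonoidHom]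
        congr 1
        rw [← MulAut.mul_apply, ← map_mul, mul_inv_cancel, map_one]
        rfl
      map_mul' := fun a b => by
        ext v
        rfl }
  map_one' := by
    ext l v
    show (l (MulAut.conjNormal (1 : P)⁻¹ v) : ℂ) = l v
    rw [inv_one, map_one]
    rfl
  map_mul' g h := by
    ext l v
    show (l (MulAut.conjNormal (g * h)⁻¹ v) : ℂ) = l (MulAut.conjNormal h⁻¹ (MulAut.conjNormal g⁻¹ v))
    rw [mul_inv_rev, map_mul]
    rfl

theorem dual_apply (g : P) (l : V →* ℂˣ) (v : V) : dual V g l v = l (MulAut.conjNormal g⁻¹ v) := rfl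

theorem dual_eq_iff (g : P) (l : V →* ℂˣ) : dual V g l = l ↔ ∀ v, l (MulAut.conjNormal g v) = l v := by
  constructor
  · intro h v
    have h1 := DFunLike.congr_fun h (MulAut.conjNormal g v)
    rw [dual_apply, ← MulAut.mul_apply, ← map_mul, inv_mul_cancel, map_one, MulAut.one_apply] at h1
    exact h1.symm
  · intro h
    ext v
    rw [dual_apply, ← h (MulAut.conjNormal g⁻¹ v), ← MulAut.mul_apply, ← map_mul, mul_inv_cancel, map_one,
      MulAut.one_apply]

end Dual

theorem nc_frame {n : ℕ} {P : Type u} [Group P] [Finite P]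
    (hB : ∀ χ : IrrCharacter P, charDegree (χ : P → ℂ) ^ 2 < Nat.card (alternatingGroup (Fin n)))
    (V : Subgroup P) [hV : V.Normal] (hab : ∀ a ∈ V, ∀ b ∈ V, a * b = b * a) (hVP : ⁅V, (⊤ : Subgroup P)⁆ = V)
    (f : P →* alternatingGroup (Fin n)) (hf : Function.Surjective f) (hk : f.ker = V)
    (habs : ∀ (Λ : Type u) [CommGroup Λ] [Finite Λ] (ρ : alternatingGroup (Fin n) →* MulAut Λ),
      (∀ x : Λ, x ≠ 1 → ∃ T : Subgroup (Perm (Fin n)), (∀ g : alternatingGroup (Fin n), (g : Perm (Fin n)) ∈ T ↔ ρ g x = x) ∧
        T < alternatingGroup (Fin n) ∧ Nat.card (alternatingGroup (Fin n)) < Nat.card T * Nat.card (ConjClasses T)) →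
      ∀ x : Λ, x = 1) : V = ⊥ := by
  classical
  let _ : CommGroup V := { (inferInstance : Group V) with
    mul_comm := fun a b => Subtype.ext (hab a a.2 b b.2) }
  have hcard : Nat.card (V →* ℂˣ) = Nat.card V := CommGroup.card_monoidHom_of_hasEnoughRootsOfUnity V ℂ
  have hfin : Finite (V →* ℂˣ) := Nat.finite_of_card_ne_zero (by rw [hcard]; exact Nat.card_pos.ne')
  have hidx : V.index = Nat.card (alternatingGroup (Fin n)) := by
    rw [← hk, Subgroup.index_ker, MonoidHom.range_eq_top.2 hf, Nat.card_congr Subgroup.topEquiv.toEquiv]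
  -- the action factors through `f`
  have hker : f.ker ≤ (dual V).ker := by
    intro a ha
    rw [hk] at ha
    rw [MonoidHom.mem_ker]
    apply MulEquiv.ext
    intro l
    show dual V a l = l
    rw [dual_eq_iff]
    intro v
    congr 1
    apply Subtype.ext
    show a * (v : P) * a⁻¹ = v
    rw [hab a ha v v.2, mul_inv_cancel_right]
  obtain ⟨ρ, hρ⟩ : ∃ ρ : alternatingGroup (Fin n) →* MulAut (V →* ℂˣ), ∀ g, ρ (f g) = dual V g := by
    refine ⟨f.liftOfSurjective hf ⟨dual V, hker⟩, fun g => ?_⟩
    exact f.liftOfRightInverse_comp_apply _ _ ⟨dual V, hker⟩ g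
  have key := habs (V →* ℂˣ) ρ ?_
  · have h1 : Nat.card (V →* ℂˣ) = 1 := by
      rw [Nat.card_eq_one_iff_unique]
      exact ⟨⟨fun a b => by rw [key a, key b]⟩, ⟨1⟩⟩
    rw [hcard] at h1
    exact Subgroup.eq_bot_of_card_eq V h1
  · intro l hl
    -- the inertia group
    let T : Subgroup P :=
      { carrier := {g | dual V g l = l}
        one_mem' := by
          show dual V 1 l = l
          rw [map_one]; rfl
        mul_mem' := by
          intro a b ha hb
          show dual V (a * b) l = l
          rw [map_mul, MulAut.mul_apply, show dual V b l = l from hb, show dual V a l = l from ha]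
        inv_mem' := by
          intro a ha
          show dual V a⁻¹ l = l
          have h1 : dual V a l = l := ha
          conv_lhs => rw [← h1]
          rw [← MulAut.mul_apply, ← map_mul, inv_mul_cancel, map_one]; rfl }
    have hT : ∀ g, g ∈ T ↔ dual V g l = l := fun g => Iff.rfl
    have hT' : ∀ g, g ∈ T ↔ ∀ v, l (MulAut.conjNormal g v) = l v := fun g => (hT g).trans (dual_eq_iff V g l)
    have hVT : V ≤ T := by
      intro a ha
      rw [← hk] at ha
      rw [hT, MonoidHom.mem_ker.1 (hker ha)]
      rfl
    have hTtop : T ≠ ⊤ := by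
      intro h
      apply hl
      have h1 : V ≤ l.ker.map V.subtype := by
        conv_lhs => rw [← hVP]
        rw [Subgroup.commutator_le]
        intro a ha g _
        have h2 : g ∈ T := by rw [h]; trivial
        have h3 := (hT' g).1 h2 ⟨a, ha⟩
        refine ⟨⟨a, ha⟩ * (MulAut.conjNormal g ⟨a, ha⟩)⁻¹, ?_, ?_⟩
        · show l _ = 1
          rw [map_mul, map_inv, h3, mul_inv_cancel]
        · show a * (g * a * g⁻¹)⁻¹ = a * g * a⁻¹ * g⁻¹
          group
      ext v
      obtain ⟨w, hw, hwv⟩ := h1 v.2
      have h2 : w = v := Subtype.ext hwv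
      rw [← h2]
      exact congrArg Units.val hw
    have hnc := nc_zero V l T hT' hVT (by rw [hidx]; exact hB)
    -- the image in `A_n`
    let F : T →* Perm (Fin n) := (alternatingGroup (Fin n)).subtype.comp (f.comp T.subtype)
    have hF : ∀ t : T, F t = (f (t : P) : Perm (Fin n)) := fun _ => rfl
    have hFk : F.ker = V.subgroupOf T := by
      ext t
      rw [MonoidHom.mem_ker, hF, OneMemClass.coe_eq_one, ← MonoidHom.mem_ker, hk]
      rfl
    have hmem : ∀ g : alternatingGroup (Fin n), (g : Perm (Fin n)) ∈ F.range ↔ ρ g l = l := by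
      intro g
      obtain ⟨x, rfl⟩ := hf g
      rw [hρ, ← hT]
      constructor
      · rintro ⟨t, ht⟩
        rw [hF] at ht
        have h1 : f (t : P) = f x := Subtype.ext ht
        have h2 : (t : P)⁻¹ * x ∈ V := by
          rw [← hk, MonoidHom.mem_ker, map_mul, map_inv, h1, inv_mul_cancel]
        have h3 : x = t * ((t : P)⁻¹ * x) := by group
        rw [h3]
        exact mul_mem t.2 (hVT h2)
      · intro hx
        exact ⟨⟨x, hx⟩, rfl⟩
    have hle : F.range ≤ alternatingGroup (Fin n) := by
      rintro _ ⟨t, rfl⟩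
      exact (f (t : P)).2
    let e1 : T ⧸ V.subgroupOf T ≃* F.range :=
      (QuotientGroup.quotientMulEquivOfEq hFk.symm).trans (QuotientGroup.quotientKerEquivRange F)
    have hc1 : Nat.card F.range = V.relIndex T := by
      rw [← Nat.card_congr e1.toEquiv]
      rfl
    have hc2 : V.relIndex T * T.index = Nat.card (alternatingGroup (Fin n)) := by
      rw [Subgroup.relIndex_mul_index hVT, hidx]
    have hpos : 0 < V.relIndex T := by
      rw [← hc1]; exact Nat.card_pos
    refine ⟨F.range, hmem, lt_of_le_of_ne hle ?_, ?_⟩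
    · intro h
      apply hTtop
      rw [← Subgroup.index_eq_one]
      rw [h] at hc1
      rw [← hc2] at hc1
      have h4 : V.relIndex T * T.index = V.relIndex T * 1 := by rw [hc1, mul_one]
      exact Nat.eq_of_mul_eq_mul_left hpos h4
    · rw [← card_conj_congr e1, hc1, ← hc2]
      exact Nat.mul_lt_mul_of_pos_left hnc hpos

end Cfsg.Agent.H211.Hup
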