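import Cfsg.Agent.H211.Hup.Eight
import Cfsg.Agent.H886.Spin.Label
import Cfsg.Agent.H686.Spin.Data

/-!
# S4766: the central extensions of `A_9`
-/

set_option autoImplicit false
set_option linter.unusedSectionVars false
set_option linter.style.haveILetI false

universe u v

namespace Cfsg.Agent.H211.Hup

open Cfsg Cfsg.Agent.Characters.Core Cfsg.Agent.H686.CharKit Cfsg.Agent.H691.AN Cfsg.Agent.H388.AN
open Cfsg.Agent.H614 Cfsg.Agent.H614.Spin Cfsg.Agent.H614.Spin
open Equiv

theorem X_mul (n : ℕ) {L : List ℤ} (hL : Strict L) (hsum : L.sum = n) :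
    X (Multiset.replicate n 1) L * ((df L : ℤ) * dp L) = (n.factorial : ℤ) * dm L := by
  have h1 := X_ones n hL hsum
  change _ = n.factorial / fden L * ratio L at h1
  rw [ratio_eq hL, ← cast_df] at h1
  have hdp' : (dp L : ℚ) ≠ 0 := by exact_mod_cast (dp_pos hL).ne'
  have hdf' : ((df L : ℕ) : ℚ) ≠ 0 := by exact_mod_cast df_ne L
  rw [div_mul_div_comm, eq_div_iff (mul_ne_zero hdf' hdp')] at h1
  exact_mod_cast h1

/-- the strict partitions of 9 -/
def sp9 : Finset (List ℤ) := {[9], [8, 1], [7, 2], [6, 3], [5, 4], [6, 2, 1], [5, 3, 1], [4, 3, 2]}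

theorem mem_sp9 {L : List ℤ} (hL : Strict L) (hs : L.sum = (9 : ℕ)) : L ∈ sp9 := by
  obtain ⟨h1, h2⟩ := hL
  match L, h1, h2, hs with
  | [], _, _, hs => simp at hs
  | [a], _, _, hs =>
    have : a = 9 := by simpa using hs
    subst this
    decide
  | [a, b], h1, h2, hs =>
    have e1 : b < a := by simpa using h1
    have e2 : 0 < b := h2 b (by simp)
    have e3 : a + b = 9 := by simpa using hs
    have e4 : a = 9 - b := by omega
    have e5 : b < 5 := by omega
    subst e4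
    clear h1 h2 hs e3 e1
    interval_cases b <;> decide
  | [a, b, c], h1, h2, hs =>
    have e1 : (b < a ∧ c < a) ∧ c < b := by simpa using h1
    have e2 : 0 < c := h2 c (by simp)
    have e3 : a + (b + c) = 9 := by simpa using hs
    have e4 : a = 9 - b - c := by omega
    have e5 : c < 3 := by omega
    have e6 : b < 5 := by omega
    have e7 : b < 9 - b - c := by omega
    have e8 : c < b := e1.2
    subst e4
    clear h1 h2 hs e3 e1
    interval_cases c <;> interval_cases b <;> first | omega | decide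
  | a :: b :: c :: d :: L, h1, h2, hs =>
    exfalso
    simp only [List.pairwise_cons, List.mem_cons, forall_eq_or_imp] at h1
    have e1 : 0 < d := h2 d (by simp)
    have e2 : 0 ≤ L.sum := List.sum_nonneg fun x hx => (h2 x (by simp [hx])).le
    simp only [List.sum_cons] at hs
    obtain ⟨⟨h3, h4, h5, -⟩, ⟨h6, h7, -⟩, ⟨h8, -⟩, -⟩ := h1
    push_cast at hs
    omega

/-- the number of shifted standard tableaux -/
def gL (L : List ℤ) : ℕ := ((Nat.factorial 9 : ℤ) * dm L / ((df L : ℤ) * dp L)).toNat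

theorem X_eq_gL {L : List ℤ} (hL : Strict L) (hs : L.sum = (9 : ℕ)) : X (Multiset.replicate 9 1) L = gL L := by
  have h1 := X_mul 9 hL hs
  have h2 := X_ones_pos 9 hL hs
  have h3 : ((df L : ℤ) * dp L) ≠ 0 := mul_ne_zero (by exact_mod_cast df_ne L) (dp_pos hL).ne'
  unfold gL
  rw [← h1, Int.mul_ediv_cancel _ h3, Int.toNat_of_nonneg h2.le]

/-- the bound for the degree -/
def bd (x : ℕ) : ℕ := if x = 1 then 8 else if x = 12 then 48 else if x = 30 then 120 else if x = 42 then 168 else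
  if x = 20 then 0 else 56

theorem chk : ∀ L ∈ sp9, ∀ d ∈ H835.AN.degA 9, ((∃ s < 9, d = 2 ^ s * gL L) ∨ (∃ s < 9, gL L = 2 ^ s * d)) →
    d ≤ bd (gL L) := by decide +kernel

theorem chk_le : ∀ L ∈ sp9, 1 ≤ gL L ∧ gL L < 512 := by decide +kernel

theorem chk_sum : ∑ L ∈ sp9, 2 * bd (gL L) ^ 2 < 181440 := by decide +kernel

theorem bound {L : List ℤ} (hL : L ∈ sp9) {a i u v : ℕ} (hd : 2 ^ i * a ∈ D 9) (h : 2 ^ u * a = 2 ^ v * gL L) :
    a ≤ bd (gL L) := by
  obtain ⟨d, hdd⟩ : ∃ d, d = 2 ^ i * a := ⟨_, rfl⟩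
  rw [← hdd, H835.AN.mem_D_iff (by norm_num) (by norm_num)] at hd
  have h1 : 2 ^ u * d = 2 ^ (v + i) * gL L := by
    rw [hdd, pow_add]
    calc 2 ^ u * (2 ^ i * a) = 2 ^ i * (2 ^ u * a) := by ring
      _ = 2 ^ i * (2 ^ v * gL L) := by rw [h]
      _ = _ := by ring
  have hd1 : 1 ≤ d ∧ d < 512 := by
    have : ∀ d ∈ H835.AN.degA 9, 1 ≤ d ∧ d < 512 := by decide
    exact this d hd
  have hg := chk_le L hL
  have h2 : d ≤ bd (gL L) := by
    apply chk L hL d hd
    have hp : ∀ s, 2 ^ s < 512 → s < 9 := by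
      intro s hs
      by_contra hcon
      have : 2 ^ 9 ≤ 2 ^ s := Nat.pow_le_pow_right (by norm_num) (by omega)
      omega
    rcases le_total u (v + i) with huv | huv
    · left
      obtain ⟨s, hs⟩ := Nat.exists_eq_add_of_le huv
      rw [hs, pow_add, mul_assoc] at h1
      have h3 := Nat.eq_of_mul_eq_mul_left (by positivity) h1
      refine ⟨s, hp s ?_, h3⟩
      have : 2 ^ s * 1 ≤ 2 ^ s * gL L := Nat.mul_le_mul_left _ hg.1
      omega
    · right
      obtain ⟨s, hs⟩ := Nat.exists_eq_add_of_le huv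
      rw [hs, pow_add, mul_assoc] at h1
      have h3 := Nat.eq_of_mul_eq_mul_left (by positivity) h1
      refine ⟨s, hp s ?_, h3.symm⟩
      have : 2 ^ s * 1 ≤ 2 ^ s * d := Nat.mul_le_mul_left _ hd1.1
      omega
  have h3 : 1 * a ≤ 2 ^ i * a := Nat.mul_le_mul_right _ Nat.one_le_two_pow
  omega

theorem nine_aux {T : Type} [Group T] [Finite T] {P : T →* Perm (Fin 9)} {z : T} {b : T → ℂ}
    (h : H686.Spin.SpinData 9 P z b)
    (hD : ∀ χ : IrrCharacter ((alternatingGroup (Fin 9)).comap P : Subgroup T), ∃ i : ℕ,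
      2 ^ i * charDegree (χ : ((alternatingGroup (Fin 9)).comap P : Subgroup T) → ℂ) ∈ D 9) : False := by
  classical
  have hKn : ((alternatingGroup (Fin 9)).comap P : Subgroup T).Normal := inferInstance
  obtain ⟨t, ht⟩ : ∃ t : T, P t ∉ alternatingGroup (Fin 9) := by
    obtain ⟨t, ht⟩ := h.surj (swap 0 1)
    refine ⟨t, ?_⟩
    rw [ht, Perm.mem_alternatingGroup, Perm.sign_swap (by decide)]
    decide
  set K : Subgroup T := (alternatingGroup (Fin 9)).comap P with hK
  have hzK : z ∈ K := by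
    rw [hK, Subgroup.mem_comap, (h.ker z).2 (Or.inr rfl)]
    exact one_mem _
  let zK : K := ⟨z, hzK⟩
  -- the projection to `A_9`
  let f : K →* alternatingGroup (Fin 9) := (P.comp K.subtype).codRestrict _ fun x => x.2
  have hfs : Function.Surjective f := by
    intro g
    obtain ⟨x, hx⟩ := h.surj g
    exact ⟨⟨x, by rw [hK, Subgroup.mem_comap, hx]; exact g.2⟩, Subtype.ext hx⟩
  have hfk : ∀ x : K, x ∈ f.ker ↔ x = 1 ∨ x = zK := by
    intro x
    rw [MonoidHom.mem_ker]
    have h1 : f x = 1 ↔ P x = 1 := by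
      constructor
      · intro h1; exact congrArg Subtype.val h1
      · intro h1; exact Subtype.ext h1
    rw [h1, h.ker]
    constructor
    · rintro (h2 | h2)
      · exact Or.inl (Subtype.ext h2)
      · exact Or.inr (Subtype.ext h2)
    · rintro (h2 | h2)
      · exact Or.inl (congrArg Subtype.val h2)
      · exact Or.inr (congrArg Subtype.val h2)
  have hcen : f.ker ≤ Subgroup.center K := by
    intro x hx
    rw [Subgroup.mem_center_iff]
    intro y
    rcases (hfk x).1 hx with rfl | rfl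
    · rw [mul_one, one_mul]
    · exact Subtype.ext (h.z_comm y)
  have hidx : f.ker.index = 181440 := by
    rw [Subgroup.index_ker, MonoidHom.range_eq_top.2 hfs, Nat.card_congr Subgroup.topEquiv.toEquiv,
      nat_card_alternatingGroup, Nat.card_eq_fintype_card, Fintype.card_fin]
    rfl
  have hz1 : zK ≠ 1 := fun h1 => h.z_ne (congrArg Subtype.val h1)
  obtain ⟨χ₀, hχ₀, hz0⟩ : ∃ χ₀ : K → ℂ, IsIrrCharacter K χ₀ ∧ χ₀ zK ≠ χ₀ 1 := by
    by_contra hcon
    push Not at hcon
    exact hz1 (eq_one_of_forall hcon)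
  obtain ⟨l, hl⟩ := exists_lin hcen hχ₀
  have hlz : ∀ χ : K → ℂ, IsIrrCharacter K χ → Over f.ker l χ → χ zK ≠ χ 1 := by
    intro χ hχ hov h1
    have h2 := hov ⟨zK, (hfk _).2 (Or.inr rfl)⟩
    have h3 := hl ⟨zK, (hfk _).2 (Or.inr rfl)⟩
    change χ zK = χ 1 * _ at h2
    change χ₀ zK = χ₀ 1 * _ at h3
    have h4 := isIrr_apply_one_ne_zero hχ
    rw [h1] at h2
    have h5 : χ 1 * (((l ⟨zK, (hfk _).2 (Or.inr rfl)⟩ : ℂˣ) : ℂ) - 1) = 0 := by linear_combination -h2
    rcases mul_eq_zero.1 h5 with h6 | h6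
    · exact h4 h6
    · apply hz0
      rw [h3]
      linear_combination χ₀ 1 * h6
  have hfin : Finite (IrrCharacter K) := finite_irr (G := K)
  have : Fintype (IrrCharacter K) := Fintype.ofFinite _
  have hsum := sum_sq hcen l
  rw [hidx, ← Finset.sum_filter] at hsum
  -- the labels
  have hlab : ∀ χ : IrrCharacter K, ∃ L : List ℤ, Over f.ker l (χ : K → ℂ) → Strict L ∧ L.sum = (9 : ℕ) ∧ ∃ j k : ℕ,
      ∀ x y : K, (y : T) = t * x * t⁻¹ → (2 : ℂ) ^ j * ((χ : K → ℂ) x + (χ : K → ℂ) y) = 2 ^ k * (b x * X (ty (P x)) L) := by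
    intro χ
    by_cases hov : Over f.ker l (χ : K → ℂ)
    · obtain ⟨L, h1, h2, h3⟩ := H886.Spin.exists_label (by norm_num) h χ (fun x hx => by
        have h1 : x = zK := Subtype.ext hx
        rw [h1]
        exact hlz _ χ.2 hov) t ht
      exact ⟨L, fun _ => ⟨h1, h2, h3⟩⟩
    · exact ⟨[], fun h1 => absurd h1 hov⟩
  choose lab hlab using hlab
  set F := Finset.univ.filter fun χ : IrrCharacter K => Over f.ker l (χ : K → ℂ) with hF
  have hmaps : ∀ χ ∈ F, lab χ ∈ sp9 := by
    intro χ hχ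
    obtain ⟨h1, h2, -⟩ := hlab χ (Finset.mem_filter.1 hχ).2
    exact mem_sp9 h1 h2
  have hdeg : ∀ χ ∈ F, charDegree (χ : K → ℂ) ≤ bd (gL (lab χ)) := by
    intro χ hχ
    obtain ⟨h1, h2, j, k, h3⟩ := hlab χ (Finset.mem_filter.1 hχ).2
    obtain ⟨i, hi⟩ := hD χ
    obtain ⟨k', hk'⟩ := h.one_pos
    have h4 := h3 1 1 (by simp)
    have h5 : ty (P ((1 : K) : T)) = Multiset.replicate 9 1 := by
      rw [Subgroup.coe_one, map_one, ty_one, Fintype.card_fin]
    rw [h5, X_eq_gL h1 h2, Subgroup.coe_one, hk', ← charDegree_cast (isIrr_isCharacter χ.2)] at h4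
    refine bound (hmaps χ hχ) hi (u := j + 1) (v := k + k') ?_
    have h6 : (((2 ^ (j + 1) * charDegree (χ : K → ℂ) : ℕ)) : ℂ) = ((2 ^ (k + k') * gL (lab χ) : ℕ) : ℂ) := by
      push_cast
      rw [pow_succ, pow_add]
      linear_combination h4
    exact_mod_cast h6
  -- at most two characters for each label
  have hconj : ∀ χ : IrrCharacter K, ∃ χ' : IrrCharacter K, ∀ x, (χ' : K → ℂ) x = (χ : K → ℂ) (MulAut.conjNormal t x) := by
    intro χ
    exact ⟨⟨fun x => (χ : K → ℂ) (MulAut.conjNormal t x), isIrr_comp (MulAut.conjNormal t : MulAut K).toMonoidHom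
      (MulAut.conjNormal t : MulAut K).surjective χ.2⟩, fun _ => rfl⟩
  choose cj hcj using hconj
  have : Fintype K := Fintype.ofFinite K
  have hfib : ∀ L ∈ sp9, (F.filter fun χ => lab χ = L).card ≤ 2 := by
    intro L _
    rcases (F.filter fun χ => lab χ = L).eq_empty_or_nonempty with h0 | ⟨χ₁, hχ₁⟩
    · rw [h0, Finset.card_empty]; norm_num
    · refine (Finset.card_le_card (t := {χ₁, cj χ₁}) ?_).trans Finset.card_le_two
      intro χ hχ
      rw [Finset.mem_filter] at hχ hχ₁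
      obtain ⟨-, -, j, k, h3⟩ := hlab χ (Finset.mem_filter.1 hχ.1).2
      obtain ⟨-, -, j₁, k₁, h4⟩ := hlab χ₁ (Finset.mem_filter.1 hχ₁.1).2
      rw [hχ.2] at h3
      rw [hχ₁.2] at h4
      have h5 : ((2 : ℂ) ^ (j + k₁)) • ((χ : K → ℂ) + (cj χ : K → ℂ)) =
          ((2 : ℂ) ^ (j₁ + k)) • ((χ₁ : K → ℂ) + (cj χ₁ : K → ℂ)) := by
        funext x
        have h6 := h3 x (MulAut.conjNormal t x) rfl
        have h7 := h4 x (MulAut.conjNormal t x) rfl
        simp only [Pi.smul_apply, Pi.add_apply, smul_eq_mul, hcj]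
        rw [pow_add, pow_add]
        linear_combination (2 : ℂ) ^ k₁ * h6 - (2 : ℂ) ^ k * h7
      have h6 := congrArg (fun φ => classInner φ (χ : K → ℂ)) h5
      simp only [classInner_smul_left, classInner_add_left] at h6
      rw [classInner_irr_self χ.2] at h6
      rw [Finset.mem_insert, Finset.mem_singleton]
      by_contra hcon
      push Not at hcon
      rw [classInner_irr_ne χ₁.2 χ.2 (fun e => hcon.1 (Subtype.ext e.symm)),
        classInner_irr_ne (cj χ₁).2 χ.2 (fun e => hcon.2 (Subtype.ext e.symm)), add_zero, mul_zero] at h6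
      rcases mul_eq_zero.1 h6 with h7 | h7
      · exact pow_ne_zero _ two_ne_zero h7
      · rw [classInner_irr (cj χ).2 χ.2] at h7
        split_ifs at h7 with h8
        · norm_num at h7
        · norm_num at h7
  have h1 := Finset.sum_fiberwise_of_maps_to hmaps (fun χ => charDegree (χ : K → ℂ) ^ 2)
  rw [hsum] at h1
  have h2 : ∑ L ∈ sp9, ∑ χ ∈ F.filter (fun χ => lab χ = L), charDegree (χ : K → ℂ) ^ 2 ≤
      ∑ L ∈ sp9, 2 * bd (gL L) ^ 2 := by
    refine Finset.sum_le_sum fun L hL => ?_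
    have h3 := Finset.sum_le_card_nsmul (F.filter fun χ => lab χ = L) (fun χ => charDegree (χ : K → ℂ) ^ 2)
      (bd (gL L) ^ 2) (fun χ hχ => by
        rw [Finset.mem_filter] at hχ
        have h4 := hdeg χ hχ.1
        rw [hχ.2] at h4
        exact Nat.pow_le_pow_left h4 2)
    rw [smul_eq_mul] at h3
    exact h3.trans (Nat.mul_le_mul_right _ (hfib L hL))
  have h3 := chk_sum
  omega

/-- the central case of S4766 for `n = 9` -/
theorem nine {G : Type u} [Group G] [Finite G] (hD : charDegrees G ⊆ D 9) (N V : Subgroup G)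
    [N.Normal] [V.Normal] (hVN : V ≤ N) (e : (N ⧸ V.subgroupOf N) ≃* An 9) (hperf : ⁅N, N⁆ = N)
    (hcen : V ≤ Subgroup.centralizer (N : Set G)) (hne : V ≠ ⊥) : False := by
  have h := cen_of hVN e hperf hcen
  obtain ⟨z, h1, h2, h3⟩ := h.exists_z (by norm_num) hne
  have hcov := h.isCover h1 h2 h3
  obtain ⟨T, _, _, P, zT, b, ε, hs, -, -⟩ := H686.Spin.exists_spinData (by norm_num) hcov
  refine nine_aux hs fun χ => ?_
  have h4 : IsIrrCharacter N (fun x => (χ : _ → ℂ) (ε x)) := isIrr_comp ε.toMonoidHom ε.surjective χ.2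
  obtain ⟨i, hi⟩ := h.hpow (by norm_num) hD hne h4 (a := charDegree (χ : _ → ℂ)) (by
    show (χ : _ → ℂ) (ε 1) = _
    rw [map_one]
    exact (charDegree_cast (isIrr_isCharacter χ.2)).symm)
  exact ⟨i, hi⟩

end Cfsg.Agent.H211.Hup
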