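import Cfsg.Agent.H211.Hup.NcFrame
import Cfsg.Agent.H932.PS11.Lift
import Cfsg.Agent.H600.EightA7
import Cfsg.Agent.H525.AltK
import Cfsg.Agent.H691.AN.Defs

/-!
# S4766: the central extensions of `A_7`

`seven_aux`: a perfect central extension of `A_7` all of whose degrees divide degrees of `A_7` is trivial.
-/

set_option autoImplicit false
set_option linter.unusedSectionVars false
set_option linter.style.haveILetI false

universe u v

namespace Cfsg.Agent.H211.Hup

open Cfsg Cfsg.Agent.Characters.Core Cfsg.Agent.H686.CharKit Cfsg.Agent.H672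
open Equiv Subgroup

/-- an irreducible character of `N` has degree dividing a degree of `G` -/
theorem exists_dvd {G : Type u} [Group G] [Finite G] (N : Subgroup G) [N.Normal] (θ : IrrCharacter N) :
    ∃ d ∈ charDegrees G, charDegree (θ : N → ℂ) ∣ d := by
  obtain ⟨χ, hχ, h⟩ := exists_over_subtype N θ.2
  exact ⟨charDegree χ, ⟨⟨χ, hχ⟩, rfl⟩, (charDegree_dvd_of_over N hχ θ.2 h).1⟩

theorem seven_aux {P : Type u} [Group P] [Finite P]
    (hD : ∀ χ : IrrCharacter P, ∃ d ∈ charDegrees (alternatingGroup (Fin 7)), charDegree (χ : P → ℂ) ∣ d)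
    (hperf : commutator P = ⊤) (f : P →* alternatingGroup (Fin 7)) (hf : Function.Surjective f)
    (hk : f.ker ≤ center P) : f.ker = ⊥ := by
  classical
  by_contra hne
  have hcz : ∀ a ∈ f.ker, ∀ b : P, a * b = b * a := fun a ha b => (mem_center_iff.1 (hk ha) b).symm
  let _ : CommGroup f.ker := { (inferInstance : Group f.ker) with
    mul_comm := fun a b => Subtype.ext (hcz a a.2 b) }
  have hcard : Nat.card (f.ker →* ℂˣ) = Nat.card f.ker := CommGroup.card_monoidHom_of_hasEnoughRootsOfUnity f.ker ℂ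
  have hfin : Finite (f.ker →* ℂˣ) := Nat.finite_of_card_ne_zero (by rw [hcard]; exact Nat.card_pos.ne')
  obtain ⟨p, hp, hpd⟩ := Nat.exists_prime_and_dvd (n := Nat.card (f.ker →* ℂˣ)) (by
    rw [hcard]
    intro h
    exact hne (Subgroup.eq_bot_of_card_eq _ h))
  have := Fact.mk hp
  obtain ⟨l, hl⟩ := exists_prime_orderOf_dvd_card' p hpd
  have hl1 : l ≠ 1 := by
    rintro rfl
    rw [orderOf_one] at hl
    exact hp.one_lt.ne hl
  obtain ⟨z, hz⟩ : ∃ z : f.ker, l z ≠ 1 := by
    by_contra h
    push Not at h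
    exact hl1 (by ext z; rw [h z]; rfl)
  have hzp : (l z : ℂ) ^ p = 1 := by
    have h1 : l ^ p = 1 := by rw [← hl, pow_orderOf_eq_one]
    have h2 := DFunLike.congr_fun h1 z
    rw [MonoidHom.pow_apply, MonoidHom.one_apply] at h2
    rw [← Units.val_pow_eq_pow_val, h2, Units.val_one]
  have hprim : IsPrimitiveRoot (l z : ℂ) p := by
    have h1 : orderOf (l z : ℂ) = p := orderOf_eq_prime hzp (by
      intro h; exact hz (Units.ext h))
    rw [← h1]
    exact IsPrimitiveRoot.orderOf _
  have hidx : f.ker.index = 2520 := by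
    rw [Subgroup.index_ker, MonoidHom.range_eq_top.2 hf, Nat.card_congr Subgroup.topEquiv.toEquiv,
      nat_card_alternatingGroup, Nat.card_eq_fintype_card, Fintype.card_fin]
    rfl
  have := finite_irr (G := P)
  have := Fintype.ofFinite (IrrCharacter P)
  have hsum := sum_sq_ov f.ker l (fun t v => by
    congr 1
    apply Subtype.ext
    show t * (v : P) * t⁻¹ = v
    rw [← hcz v v.2 t, mul_inv_cancel_right])
  rw [hidx] at hsum
  have hcount := card_ov_le f.ker l
  rw [card_conj_congr (QuotientGroup.quotientKerEquivOfSurjective f hf)] at hcount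
  replace hcount := hcount.trans H525.AltK.alt_seven
  have hsub : Nat.card {χ : IrrCharacter P // Ov f.ker l (χ : P → ℂ)} =
      (Finset.univ.filter fun χ : IrrCharacter P => Ov f.ker l (χ : P → ℂ)).card := by
    rw [Nat.card_eq_fintype_card, Fintype.card_subtype]
  rw [hsub] at hcount
  set F := Finset.univ.filter fun χ : IrrCharacter P => Ov f.ker l (χ : P → ℂ) with hF
  -- the degrees
  have hdeg : ∀ χ ∈ F, p ∣ charDegree (χ : P → ℂ) ∧ ∃ d ∈ ([1, 6, 10, 14, 15, 21, 35] : List ℕ),
      charDegree (χ : P → ℂ) ∣ d := by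
    intro χ hχ
    rw [hF, Finset.mem_filter] at hχ
    refine ⟨?_, ?_⟩
    · refine H932.PS11.dvd_degree hperf (hk z.2) hprim χ.2 ?_
      have h1 := hχ.2 z 1
      rwa [mul_one] at h1
    · obtain ⟨d, hd, h⟩ := hD χ
      exact ⟨d, (Cfsg.Agent.H600.EightAlt.mem_a7 d).1 hd, h⟩
  have hdeg2 : ∀ χ ∈ F, p ∣ charDegree (χ : P → ℂ) ∧ (charDegree (χ : P → ℂ) ∣ 6 ∨ charDegree (χ : P → ℂ) ∣ 10 ∨
      charDegree (χ : P → ℂ) ∣ 14 ∨ charDegree (χ : P → ℂ) ∣ 15 ∨ charDegree (χ : P → ℂ) ∣ 21 ∨
      charDegree (χ : P → ℂ) ∣ 35) := by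
    intro χ hχ
    obtain ⟨h1, d, hd, h2⟩ := hdeg χ hχ
    refine ⟨h1, ?_⟩
    simp only [List.mem_cons, List.not_mem_nil, or_false] at hd
    rcases hd with rfl | rfl | rfl | rfl | rfl | rfl | rfl
    · exact Or.inl (h2.trans (one_dvd _))
    · exact Or.inl h2
    · exact Or.inr (Or.inl h2)
    · exact Or.inr (Or.inr (Or.inl h2))
    · exact Or.inr (Or.inr (Or.inr (Or.inl h2)))
    · exact Or.inr (Or.inr (Or.inr (Or.inr (Or.inl h2))))
    · exact Or.inr (Or.inr (Or.inr (Or.inr (Or.inr h2))))
  have hpp : p * p ∣ 2520 := by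
    rw [← hsum]
    refine Finset.dvd_sum fun χ hχ => ?_
    rw [sq]
    exact mul_dvd_mul (hdeg χ hχ).1 (hdeg χ hχ).1
  have hp23 : p = 2 ∨ p = 3 := by
    have h1 : p * p ≤ 2520 := Nat.le_of_dvd (by norm_num) hpp
    have h2 : p < 51 := by
      by_contra h
      push Not at h
      nlinarith
    have h3 := hp.two_le
    clear * - h2 h3 hp hpp
    interval_cases p <;> first | (left; rfl) | (right; rfl) | (exfalso; revert hpp; norm_num; done) | (exfalso; revert hp; norm_num)
  rcases hp23 with rfl | rfl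
  · -- `p = 2`
    have h1 : ∀ χ ∈ F, charDegree (χ : P → ℂ) ^ 2 ≤ 196 := by
      intro χ hχ
      obtain ⟨h1, h2⟩ := hdeg2 χ hχ
      have h3 : charDegree (χ : P → ℂ) ≤ 14 := by
        generalize charDegree (χ : P → ℂ) = e at h1 h2
        rcases h2 with h2 | h2 | h2 | h2 | h2 | h2
        · exact (Nat.le_of_dvd (by norm_num) h2).trans (by norm_num)
        · exact (Nat.le_of_dvd (by norm_num) h2).trans (by norm_num)
        · exact Nat.le_of_dvd (by norm_num) h2
        · exact absurd (h1.trans h2) (by norm_num)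
        · exact absurd (h1.trans h2) (by norm_num)
        · exact absurd (h1.trans h2) (by norm_num)
      exact (Nat.pow_le_pow_left h3 2).trans (by norm_num)
    have h2 := Finset.sum_le_card_nsmul F _ _ h1
    rw [hsum, smul_eq_mul] at h2
    omega
  · -- `p = 3`
    have h1 : ∀ χ ∈ F, charDegree (χ : P → ℂ) ∈ ({3, 6, 15, 21} : Finset ℕ) := by
      intro χ hχ
      obtain ⟨h1, h2⟩ := hdeg2 χ hχ
      generalize charDegree (χ : P → ℂ) = e at h1 h2
      have h3 : e ≤ 35 := by
        rcases h2 with h2 | h2 | h2 | h2 | h2 | h2 <;>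
          exact (Nat.le_of_dvd (by norm_num) h2).trans (by norm_num)
      clear * - h1 h2 h3
      interval_cases e <;> first | decide | (exfalso; revert h1 h2; decide)
    have h2 := Finset.sum_fiberwise_of_maps_to h1 (fun χ => charDegree (χ : P → ℂ) ^ 2)
    have h3 := Finset.card_eq_sum_card_fiberwise h1
    have h4 : ∀ j, (∑ χ ∈ F.filter (fun χ : IrrCharacter P => charDegree (χ : P → ℂ) = j), charDegree (χ : P → ℂ) ^ 2) =
        (F.filter (fun χ : IrrCharacter P => charDegree (χ : P → ℂ) = j)).card * j ^ 2 := by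
      intro j
      rw [Finset.sum_congr rfl (g := fun _ => j ^ 2) (fun χ hχ => by rw [(Finset.mem_filter.1 hχ).2]),
        Finset.sum_const, smul_eq_mul]
    rw [hsum] at h2
    simp only [h4] at h2
    rw [Finset.sum_insert (by decide), Finset.sum_insert (by decide), Finset.sum_insert (by decide),
      Finset.sum_singleton] at h2
    rw [h3, Finset.sum_insert (by decide), Finset.sum_insert (by decide), Finset.sum_insert (by decide),
      Finset.sum_singleton] at hcount
    generalize (F.filter (fun χ : IrrCharacter P => charDegree (χ : P → ℂ) = 3)).card = a at h2 hcount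
    generalize (F.filter (fun χ : IrrCharacter P => charDegree (χ : P → ℂ) = 6)).card = b at h2 hcount
    generalize (F.filter (fun χ : IrrCharacter P => charDegree (χ : P → ℂ) = 15)).card = c at h2 hcount
    generalize (F.filter (fun χ : IrrCharacter P => charDegree (χ : P → ℂ) = 21)).card = e at h2 hcount
    clear * - h2 hcount
    have he : e ≤ 9 := by omega
    have hc : c ≤ 9 := by omega
    interval_cases e <;> interval_cases c <;> omega

/-- the central case of S4766 for `n = 7` -/
theorem seven {G : Type u} [Group G] [Finite G] (h : charDegrees G ⊆ Cfsg.Agent.H691.AN.D 7) (N V : Subgroup G)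
    [N.Normal] [V.Normal] (hVN : V ≤ N) (e : (N ⧸ V.subgroupOf N) ≃* Cfsg.Agent.H691.AN.An 7) (hperf : ⁅N, N⁆ = N)
    (hcen : V ≤ Subgroup.centralizer (N : Set G)) (hne : V ≠ ⊥) : False := by
  let f : N →* alternatingGroup (Fin 7) := e.toMonoidHom.comp (QuotientGroup.mk' (V.subgroupOf N))
  have hker : f.ker = V.subgroupOf N := by
    ext x
    rw [MonoidHom.mem_ker]
    show e (QuotientGroup.mk' _ x) = 1 ↔ _
    rw [EmbeddingLike.map_eq_one_iff, ← MonoidHom.mem_ker, QuotientGroup.ker_mk']
  have h1 := seven_aux (P := N) (fun χ => ?_) ?_ f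
    (e.surjective.comp (QuotientGroup.mk'_surjective _)) ?_
  · rw [hker, Subgroup.subgroupOf_eq_bot, disjoint_iff, inf_eq_left.2 hVN] at h1
    exact hne h1
  · obtain ⟨d, hd, h2⟩ := exists_dvd N χ
    exact ⟨d, h hd, h2⟩
  · apply Subgroup.map_injective N.subtype_injective
    rw [Subgroup.map_subtype_commutator, hperf, ← MonoidHom.range_eq_map, Subgroup.range_subtype]
  · rw [hker]
    intro x hx
    rw [mem_center_iff]
    intro y
    have h2 := Subgroup.mem_centralizer_iff.1 (hcen (Subgroup.mem_subgroupOf.1 hx)) y y.2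
    exact Subtype.ext h2

end Cfsg.Agent.H211.Hup
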