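import Cfsg.Agent.H211.Hup.Abs
import Cfsg.Agent.H211.Hup.Seven
import Cfsg.Agent.H388.AN.Large
import Cfsg.Agent.H691.AN.Frame
import Cfsg.Agent.H495.Cod.Basic

/-!
# S4766: there is no abelian chief factor below `A_n` (assembly from the pieces)
-/

set_option autoImplicit false
set_option linter.unusedSectionVars false
set_option linter.style.haveILetI false

universe u v

namespace Cfsg.Agent.H211.Hup

open Cfsg Cfsg.Agent.Characters.Core Cfsg.Agent.H686.CharKit Cfsg.Agent.H672 Cfsg.Agent.H691.AN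
open Equiv Subgroup
open scoped commutatorElement

/-- all degrees `d` of `A_n` satisfy `d² < |A_n|` -/
theorem sq_lt_alt {n : ℕ} (hn : 5 ≤ n) {d : ℕ} (hd : d ∈ D n) : d ^ 2 < Nat.card (An n) := by
  have h2 : 1 < Nat.card (An n) := by
    have : Nontrivial (Fin n) := Fin.nontrivial_iff_two_le.2 (by omega)
    have h1 := two_mul_nat_card_alternatingGroup (α := Fin n)
    rw [Nat.card_perm, Nat.card_eq_fintype_card (α := Fin n), Fintype.card_fin] at h1
    have h3 : 5 ≤ n.factorial := hn.trans (Nat.self_le_factorial n)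
    show 1 < Nat.card (alternatingGroup (Fin n))
    omega
  obtain ⟨χ, rfl⟩ := hd
  by_cases h : (χ : An n → ℂ) = 1
  · rw [h, H495.Cod.charDegree_one]
    omega
  · have := H495.Cod.sq_lt χ h
    omega

/-- the noncentral case -/
theorem noncentral {n : ℕ} (hn : 7 ≤ n)
    (hbig : ∀ T : Subgroup (Perm (Fin n)), T < alternatingGroup (Fin n) →
      Nat.card (alternatingGroup (Fin n)) ≤ Nat.card T * Nat.card (ConjClasses T) → H797.Nc.HasBig T)
    {G : Type u} [Group G] [Finite G] (h : charDegrees G ⊆ D n) (N V : Subgroup G) [N.Normal] [V.Normal]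
    (hVN : V ≤ N) (e : (N ⧸ V.subgroupOf N) ≃* An n) (hab : ⁅V, V⁆ = ⊥) (hne : V ≠ ⊥) (hVN' : ⁅V, N⁆ = V) : False := by
  let f : N →* alternatingGroup (Fin n) := e.toMonoidHom.comp (QuotientGroup.mk' (V.subgroupOf N))
  have hker : f.ker = V.subgroupOf N := by
    ext x
    rw [MonoidHom.mem_ker]
    show e (QuotientGroup.mk' _ x) = 1 ↔ _
    rw [EmbeddingLike.map_eq_one_iff, ← MonoidHom.mem_ker, QuotientGroup.ker_mk']
  have h1 := nc_frame (n := n) (P := N) (fun χ => ?_) (V.subgroupOf N) ?_ ?_ f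
    (e.surjective.comp (QuotientGroup.mk'_surjective _)) hker
    (fun Λ _ _ ρ hρ => habs hn hbig Λ ρ hρ)
  · rw [Subgroup.subgroupOf_eq_bot, disjoint_iff, inf_eq_left.2 hVN] at h1
    exact hne h1
  · obtain ⟨d, hd, h2⟩ := exists_dvd N χ
    refine lt_of_le_of_lt (Nat.pow_le_pow_left (Nat.le_of_dvd ?_ h2) 2) (sq_lt_alt (by omega) (h hd))
    obtain ⟨ψ, rfl⟩ := hd
    exact Nat.pos_of_ne_zero fun h0 => by
      have := Characters.Core.isIrr_apply_one_ne_zero ψ.2
      rw [← charDegree_cast (isIrr_isCharacter ψ.2), h0] at this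
      exact this Nat.cast_zero
  · intro a ha b hb
    have h2 : ⁅(a : G), (b : G)⁆ = 1 := by
      have h3 := Subgroup.commutator_mem_commutator (Subgroup.mem_subgroupOf.1 ha) (Subgroup.mem_subgroupOf.1 hb)
      rwa [hab, Subgroup.mem_bot] at h3
    exact Subtype.ext (commutatorElement_eq_one_iff_mul_comm.1 h2)
  · apply Subgroup.map_injective N.subtype_injective
    rw [Subgroup.map_commutator, Subgroup.subgroupOf_map_subtype, ← MonoidHom.range_eq_map, Subgroup.range_subtype,
      inf_eq_left.2 hVN, hVN']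

/-- the assembly -/
theorem noChief_of {n : ℕ} (hn : 7 ≤ n)
    (hbig : ∀ T : Subgroup (Perm (Fin n)), T < alternatingGroup (Fin n) →
      Nat.card (alternatingGroup (Fin n)) ≤ Nat.card T * Nat.card (ConjClasses T) → H797.Nc.HasBig T)
    (hcent : n = 8 ∨ n = 9 → ∀ {G : Type u} [Group G] [Finite G], charDegrees G ⊆ D n → ∀ (N V : Subgroup G) [N.Normal]
      [V.Normal], V ≤ N → ((N ⧸ V.subgroupOf N) ≃* An n) → ⁅N, N⁆ = N → V ≤ Subgroup.centralizer (N : Set G) → V ≠ ⊥ →
      (∀ K : Subgroup G, K.Normal → K ≤ V → K = ⊥ ∨ K = V) → False) : NoChief.{u} n := by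
  intro G _ _ h N V _ _ hVN e hperf hab hne hmin
  have hnorm : (⁅V, N⁆ : Subgroup G).Normal := inferInstance
  have hle : ⁅V, N⁆ ≤ V := Subgroup.commutator_le_left V N
  rcases hmin _ hnorm hle with h1 | h1
  · -- central
    have hcen : V ≤ Subgroup.centralizer (N : Set G) := Subgroup.commutator_eq_bot_iff_le_centralizer.1 h1
    rcases Nat.lt_or_ge n 10 with h10 | h10
    · rcases (by omega : n = 7 ∨ n = 8 ∨ n = 9) with rfl | h8
      · exact seven h N V hVN e hperf hcen hne
      · exact hcent h8 h N V hVN e hperf hcen hne hmin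
    · exact H388.AN.d6_large h10 h N V hVN e hperf hcen hne
  · exact noncentral hn hbig h N V hVN e hab hne h1

end Cfsg.Agent.H211.Hup
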